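import Cfsg.Agent.Lib.Spor.Cos.Act

/-! Tables for the subgroups of order three. -/

set_option autoImplicit false
set_option maxRecDepth 100000
set_option maxHeartbeats 4000000

namespace Cfsg.Agent.Spor.Cos.O7.Ord3

/-- Nine elements as words in the eight generators. -/
def lws : List (List ℕ) := [[7, 6, 2, 3, 1, 2, 6, 7, 6, 1, 2, 3, 0, 1, 2, 6, 2, 3, 0, 1, 2, 0, 1, 0], [6, 4, 2, 3, 1, 2, 6, 7, 6, 2, 3, 0, 1, 2, 6, 3, 4, 5, 2, 3, 4, 1, 2, 3, 0, 1, 2, 6, 7, 3, 2, 6, 4, 3, 1, 2, 1, 0, 5, 3, 4, 2, 3, 1, 2, 6, 2, 3, 4, 1, 2, 3, 0, 1, 2, 6, 4, 5, 2, 3], [7, 6, 2, 3, 1, 2, 6, 7, 2, 3, 0, 1, 2, 6, 3, 4, 5, 2, 3, 4, 1, 2, 3, 0, 1, 2, 6, 7, 2, 6, 3, 1, 2, 1, 0, 6, 5, 3, 4, 2, 3, 1, 2, 6, 1,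 2, 3, 4, 5, 0, 1, 2, 3, 4, 3, 1, 2, 1], [7, 1, 2, 6, 3, 4, 5, 2, 3, 4, 1, 2, 3, 0, 1, 2, 6, 7, 3, 0, 1, 2, 6, 4, 5, 3, 4, 2, 3, 1, 2, 6, 4, 5, 4, 0], [6, 2, 3, 1, 2, 1], [4, 3, 1, 2, 6, 7, 5, 4, 1, 2, 3, 0, 1, 2, 6, 4, 5, 3, 4, 1, 2, 3, 0, 1, 2, 6, 7, 2, 1, 0, 6, 2, 3, 1, 2, 6, 4, 5, 3, 4, 2, 3, 0, 1, 2, 6, 0, 1, 2, 3, 4, 1], [3, 2, 6, 7, 5, 4, 1, 2, 3, 0, 1, 2, 6, 4, 5, 3, 4, 1, 2, 3, 0, 1, 2, 6, 7, 3, 2, 6, 5, 2, 3, 4, 1, 2, 3, 0, 1, 2, 6, 2, 3, 4, 5, 4, 1, 2, 0, 1], [7, 6, 2, 3, 1, 2, 6, 7, 1, 2, 3, 0, 1, 2, 6, 3, 2, 0, 1, 0], [0, 1, 2, 6, 7, 3, 2, 6, 1, 2, 3, 0, 1, 2, 6, 7, 1, 2, 3, 0, 1, 2, 6, 5, 3, 0, 1, 2, 0, 1, 0]]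

/-- Seven representatives as words in the eight generators. -/
def reps : List (List ℕ) := [[6, 3, 4, 2, 3, 1, 2, 6, 4, 5, 2, 3, 4, 1, 2, 3, 0, 1, 2, 6, 7, 6, 3, 2, 1, 0, 6, 3, 4, 5, 2, 3, 4, 1, 2, 3, 0, 1, 2, 6, 0, 1, 2, 3, 4, 5, 3, 1, 0], [4, 3, 1, 2, 6, 5, 3, 4, 1, 2, 3, 0, 1, 2, 6, 7, 4, 2, 0, 1, 2, 6, 3, 4, 5, 2, 3, 4, 1, 2, 3, 0, 1, 2, 6, 5, 2, 3, 4, 3, 2, 1], [4, 3, 1, 2, 6, 7, 6, 5, 4, 2, 3, 0, 1, 2, 6, 4, 5, 3, 4, 1, 2, 3, 0, 1, 2, 6, 7, 5, 3, 4, 1, 2, 3, 2, 0, 1, 2, 6, 2, 3, 4, 1, 2, 3, 0, 1, 2, 6, 5, 1, 2, 3, 4, 0, 1, 2, 3], [4, 3, 1, 2, 6, 7, 6, 2, 3, 0, 1, 2, 6, 3, 4, 5, 2, 3, 4, 1, 2, 3, 0, 1, 2, 6, 7, 5, 4, 3, 1, 2, 0, 1, 0, 6, 5, 2, 3, 4, 1, 2, 3, 0, 1, 2, 6, 1, 2,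 3, 4, 5, 4, 3, 2, 0, 1, 0], [4, 3, 2, 6, 5, 3, 4, 1, 2, 3, 0, 1, 2, 6, 7, 0, 1, 2, 6, 3, 4, 1, 2, 3, 0, 1, 2, 6, 4, 5, 0, 1, 2, 3, 4, 2, 0, 1], [7, 6, 2, 3, 1, 2, 6, 7, 4, 2, 3, 0, 1, 2, 6, 3, 4, 5, 2, 3, 4, 1, 2, 3, 0, 1, 2, 6, 7, 4, 3, 2, 6, 5, 4, 3, 1, 0, 2, 3, 1, 2, 6, 4, 5, 3, 4, 2, 3, 0, 1, 2, 6, 4, 5, 3, 4, 2, 3, 1], [4, 5, 3, 4, 2, 3, 1, 2, 6, 5, 2, 3, 4, 1, 2, 3, 0, 1, 2, 6, 7, 6, 2, 3, 4, 1, 2, 3, 0, 1, 2, 6, 1, 2, 3, 4, 1, 2]]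

/-- Their places in the table. -/
def roots : List ℕ := [6706, 7355, 16663, 7652, 2918, 19623, 4899]

/-- Entries telling the elements apart. -/
def entries : List (ℕ × ℕ) := [(0, 3), (0, 9), (0, 27), (24, 3), (36, 3), (36, 9), (48, 9), (48, 27), (60, 27)]

end Cfsg.Agent.Spor.Cos.O7.Ord3
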