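import Cfsg.Agent.Lib.Spor.Cos.O7.Ord3.Rho
import Cfsg.Agent.Lib.Spor.Cos.O7.Ord3.Data
import Cfsg.Agent.Lib.Spor.Cos.O7.ActA

/-!
Two invariants separating seven subgroups of order three.
-/

set_option autoImplicit false
set_option maxRecDepth 100000
set_option maxHeartbeats 4000000

open Cfsg.Spor

namespace Cfsg.Agent.Spor.Cos.O7.Ord3

/-- The points fixed by a subgroup. -/
noncomputable def fixA (X : Subgroup P) : ℕ := Nat.card {p : Fin actA.N // ∀ x ∈ X, piA x p = p}

/-- The singular vectors fixed by a subgroup. -/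
noncomputable def fixV (X : Subgroup P) : ℕ :=
  Nat.card {v : V // (∀ x ∈ X, rho x v = v) ∧ quadFormOdd 3 (ZMod 3) v = 0}

theorem forall_zpowers {G α : Type*} [Group G] (f : G →* Equiv.Perm α) (y : G) (a : α) :
    (∀ x ∈ Subgroup.zpowers y, f x a = a) ↔ f y a = a := by
  refine ⟨fun h => h y (Subgroup.mem_zpowers y), fun h => ?_⟩
  have hle : Subgroup.zpowers y ≤ (MulAction.stabilizer (Equiv.Perm α) a).comap f :=
    Subgroup.zpowers_le.2 (by simpa [Subgroup.mem_comap, MulAction.mem_stabilizer_iff] using h)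
  intro x hx
  simpa [Subgroup.mem_comap, MulAction.mem_stabilizer_iff] using hle hx

theorem forall_map_iff {G α : Type*} [Group G] (f : G →* Equiv.Perm α) (X : Subgroup G) (z : G) (a : α) :
    (∀ x ∈ X.map (MulAut.conj z).toMonoidHom, f x (f z a) = f z a) ↔ ∀ x ∈ X, f x a = a := by
  constructor
  · intro h x hx
    have := h _ (Subgroup.mem_map_of_mem _ hx)
    simp only [MulEquiv.coe_toMonoidHom, MulAut.conj_apply, map_mul, Equiv.Perm.mul_apply, map_inv] at this
    rw [show ((f z)⁻¹ : Equiv.Perm α) (f z a) = a from (f z).symm_apply_apply a] at this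
    exact (f z).injective this
  · intro h y hy
    obtain ⟨x, hx, rfl⟩ := Subgroup.mem_map.1 hy
    simp only [MulEquiv.coe_toMonoidHom, MulAut.conj_apply, map_mul, Equiv.Perm.mul_apply, map_inv]
    rw [show ((f z)⁻¹ : Equiv.Perm α) (f z a) = a from (f z).symm_apply_apply a, h x hx]

theorem fixA_map (X : Subgroup P) (z : P) : fixA (X.map (MulAut.conj z).toMonoidHom) = fixA X :=
  (Nat.card_congr ((piA z).subtypeEquiv fun p => (forall_map_iff piA X z p).symm)).symm

theorem fixV_map (X : Subgroup P) (z : P) : fixV (X.map (MulAut.conj z).toMonoidHom) = fixV X :=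
  (Nat.card_congr ((rho z).subtypeEquiv fun v => by rw [forall_map_iff rho X z v, quad_rho])).symm

theorem card_filter (n : ℕ) (b : ℕ → Bool) :
    Nat.card {p : Fin n // b p = true} = ((List.range n).filter b).length := by
  rw [Nat.card_eq_fintype_card, Fintype.card_subtype, ← Finset.card_map Fin.valEmbedding]
  have : (Finset.univ.filter fun p : Fin n => b p = true).map Fin.valEmbedding =
      ((List.range n).filter b).toFinset := by
    ext x
    simp only [Finset.mem_map, Finset.mem_filter, Finset.mem_univ, true_and, Fin.valEmbedding_apply,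
      List.mem_toFinset, List.mem_filter, List.mem_range]
    constructor
    · rintro ⟨a, ha, rfl⟩
      exact ⟨a.2, ha⟩
    · rintro ⟨h1, h2⟩
      exact ⟨⟨x, h1⟩, h2, rfl⟩
  rw [this, List.toFinset_card_of_nodup (List.nodup_range.filter _)]

/-- The fixed points of a word. -/
noncomputable def countA (w : List ℕ) : ℕ := ((List.range 3159).filter fun p => Nat.beq (actA.go w p) p).length

/-- The fixed singular vectors of a word. -/
noncomputable def countV (w : List ℕ) : ℕ :=
  ((List.range 2187).filter fun p =>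
    Bool.rec false (decide (quadFormOdd 3 (ZMod 3) (vec p) = 0)) (Nat.beq (actV.go w p) p)).length

theorem fixA_zpowers (w : List ℕ) (h : ∀ s ∈ w, s < 8) : fixA (Subgroup.zpowers (ev g w)) = countA w := by
  rw [countA, ← card_filter]
  refine Nat.card_congr (Equiv.subtypeEquivRight fun p => ?_)
  rw [forall_zpowers, ← Fin.val_inj, homA.apply_ev w h p]
  exact ⟨fun e => by rw [e]; exact Nat.beq_refl _, fun e => Nat.eq_of_beq_eq_true e⟩

theorem fixV_zpowers (w : List ℕ) (h : ∀ s ∈ w, s < 8) : fixV (Subgroup.zpowers (ev g w)) = countV w := by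
  rw [countV, ← card_filter]
  refine (Nat.card_congr (vecEquiv.subtypeEquiv fun p => ?_)).symm
  rw [forall_zpowers]
  have hv : vecEquiv p = vec p := rfl
  obtain ⟨h1, h2⟩ := rho_ev w h p.2
  rw [hv, h2]
  cases hb : Nat.beq (actV.go w p) (p : ℕ)
  · refine iff_of_false (by simp) fun e => ?_
    rw [vec_inj h1 p.2 e.1, Nat.beq_refl] at hb
    exact Bool.noConfusion hb
  · rw [Nat.eq_of_beq_eq_true hb]
    simp

end Cfsg.Agent.Spor.Cos.O7.Ord3
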