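import Cfsg.Agent.Lib.Spor.Cos.O7.Ord3.Sylow
import Cfsg.Agent.Lib.Spor.Cos.O7.Ord3.Inv

/-!
The seven classes of subgroups of order three.
-/

set_option autoImplicit false
set_option maxRecDepth 100000
set_option maxHeartbeats 4000000

namespace Cfsg.Agent.Spor.Cos.O7.Ord3

/-- A representative. -/
noncomputable def rep (n : ℕ) : P := ev g (reps.getD n [])

theorem reps_lt (n : Fin 7) : ∀ t ∈ reps.getD n.1 [], t < 8 := by
  have hl : Act.lettersOk 8 reps = true := by decide +kernel
  rw [List.getD_eq_getElem _ _ (show n.1 < reps.length from n.2)]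
  exact Act.lt_of_lettersOk hl (List.getElem_mem _)

theorem rep_eq (n : Fin 7) : roots.getD n.1 0 < 19683 ∧ rep n = el (roots.getD n.1 0) := by
  have hr : ∀ n : Fin 7, roots.getD n.1 0 < 19683 := by decide +kernel
  have hk : ∀ (n : Fin 7) (l : Fin 7), actV.go (reps.getD n.1 []) (3 ^ l.1) = keyAt (roots.getD n.1 0) l.1 := by
    decide +kernel
  refine ⟨hr n, el_unique (hr n) fun l hl => ?_⟩
  have hp : ∀ l : Fin 7, 3 ^ l.1 < 2187 := by decide
  rw [rep, (rho_ev _ (reps_lt n) (hp ⟨l, hl⟩)).2]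
  exact congrArg vec (hk n ⟨l, hl⟩)

theorem el_pow_three {i : ℕ} (hi : i < 19683) : goS (wd i) (goS (wd i) i) < 19683 ∧
    el i ^ 3 = el (goS (wd i) (goS (wd i) i)) := by
  obtain ⟨h1, e1⟩ := el_mul (i := i) hi
  obtain ⟨h2, e2⟩ := el_mul (i := i) h1
  exact ⟨h2, by rw [← e2, ← e1, pow_succ', pow_two]⟩

theorem zpowers_sq {G : Type*} [Group G] {x : G} (h : x ^ 3 = 1) :
    Subgroup.zpowers (x * x) = Subgroup.zpowers x := by
  refine le_antisymm (Subgroup.zpowers_le.2 (mul_mem (Subgroup.mem_zpowers x) (Subgroup.mem_zpowers x))) ?_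
  refine Subgroup.zpowers_le.2 ?_
  have : x = (x * x) * (x * x) := by
    rw [show x * x * (x * x) = x ^ 3 * x by simp [pow_succ, pow_two, mul_assoc], h, one_mul]
  exact (congrArg (· ∈ Subgroup.zpowers (x * x)) this).mpr
    (mul_mem (Subgroup.mem_zpowers (x * x)) (Subgroup.mem_zpowers (x * x)))

theorem cover : ∀ i < 19683, el i ≠ 1 → el i ^ 3 = 1 → ∃ (n : Fin 7) (z : P),
    (Subgroup.zpowers (el i)).map (MulAut.conj z).toMonoidHom = Subgroup.zpowers (rep n) := by
  suffices h : ∀ d i, rankAt i = d → i < 19683 → el i ≠ 1 → el i ^ 3 = 1 → ∃ (n : Fin 7) (z : P),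
      (Subgroup.zpowers (el i)).map (MulAut.conj z).toMonoidHom = Subgroup.zpowers (rep n) from
    fun i hi => h _ i rfl hi
  intro d
  induction d using Nat.strong_induction_on with
  | _ d ih =>
    intro i hd hi h1 h3
    have hi0 : i ≠ 0 := fun h => h1 (h ▸ el_zero)
    obtain ⟨hc, ec⟩ := el_pow_three hi
    have hz : goS (wd i) (goS (wd i) i) = 0 :=
      el_inj hc (by norm_num) (by rw [← ec, h3, el_zero])
    have h := chkThree_all i hi
    simp only [chkThree, force_eq, Bool.or_eq_true, Bool.not_eq_true'] at h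
    rcases h with h0 | hne | hcert
    · exact absurd (Nat.eq_of_beq_eq_true h0) hi0
    · rw [show goS (decode (codeAt i)) (goS (decode (codeAt i)) i) = 0 from hz, Nat.beq_refl] at hne
      exact absurd hne (by simp)
    simp only [chkCert, force_eq, Bool.or_eq_true, Bool.and_eq_true, Bool.not_eq_true', List.all_eq_true,
      List.mem_range] at hcert
    rcases hcert with (⟨⟨-, hn⟩, hr⟩ | ⟨⟨⟨⟨-, hj⟩, hn⟩, -⟩, hk⟩) | ⟨⟨⟨⟨hc0, hc9⟩, hn⟩, hk⟩, hl⟩
    · refine ⟨⟨nextAt i, Nat.le_of_ble_eq_true hn⟩, 1, ?_⟩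
      rw [(rep_eq ⟨nextAt i, Nat.le_of_ble_eq_true hn⟩).2, Nat.eq_of_beq_eq_true hr]
      simp
    · have hn' : nextAt i < 19683 := Nat.le_of_ble_eq_true hn
      have e : el (nextAt i) = el i * el i := by
        rw [Nat.eq_of_beq_eq_true hj]
        exact (el_mul (i := i) hi).2.symm
      have hne : el (nextAt i) ≠ 1 := fun h => h1 (by
        have : el i = (el i * el i) * (el i * el i) := by
          rw [show el i * el i * (el i * el i) = el i ^ 3 * el i by simp [pow_succ, pow_two, mul_assoc], h3, one_mul]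
        rw [this, ← e, h, one_mul])
      obtain ⟨n, z, hz'⟩ := ih _ (hd ▸ Nat.le_of_ble_eq_true hk) _ rfl hn' hne
        (by rw [e, ← pow_two, ← pow_mul, mul_comm, pow_mul, h3, one_pow])
      rw [e, zpowers_sq h3] at hz'
      exact ⟨n, z, hz'⟩
    · have hn' : nextAt i < 19683 := Nat.le_of_ble_eq_true hn
      have hs : kindAt i - 1 < 9 := by
        have := Nat.le_of_ble_eq_true hc0
        have := Nat.le_of_ble_eq_true hc9
        omega
      have hconj : el i * lt9 (kindAt i - 1) = lt9 (kindAt i - 1) * el (nextAt i) := by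
        refine basis_ext fun l hl' => ?_
        have hp : 3 ^ l < 2187 := by interval_cases l <;> norm_num
        obtain ⟨ha, hb⟩ := hl l hl'
        obtain ⟨hs1, hs2⟩ := rho_lt9 hs hp
        obtain ⟨-, hw⟩ := rho_ev9 (wd i) (fun s hs => lt_trans (decode_lt _ s hs) (by norm_num)) _ hs1
        rw [map_mul, map_mul, Equiv.Perm.mul_apply, Equiv.Perm.mul_apply, hs2, rho_el _ hn' l hl',
          (rho_lt9 hs (Nat.le_of_ble_eq_true ha)).2, el, hw]
        exact congrArg vec (Nat.eq_of_beq_eq_true hb)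
      set c := lt9 (kindAt i - 1)
      have e : el (nextAt i) = c⁻¹ * el i * c := by rw [mul_assoc, hconj, inv_mul_cancel_left]
      have hne : el (nextAt i) ≠ 1 := fun h => h1 (by rw [h, mul_one] at hconj; exact mul_eq_right.1 hconj)
      have h3' : el (nextAt i) ^ 3 = 1 := by
        rw [e, show c⁻¹ * el i * c = c⁻¹ * el i * c⁻¹⁻¹ by rw [inv_inv], conj_pow, h3]
        simp
      obtain ⟨n, z, hz'⟩ := ih _ (hd ▸ Nat.le_of_ble_eq_true hk) _ rfl hn' hne h3'
      refine ⟨n, z * c⁻¹, ?_⟩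
      rw [← hz', MonoidHom.map_zpowers, MonoidHom.map_zpowers]
      congr 1
      simp [e, mul_assoc]

theorem rep_ne_one (n : Fin 7) : rep n ≠ 1 := fun h => by
  obtain ⟨hr, e⟩ := rep_eq n
  have := el_inj hr (show 0 < 19683 by norm_num) (by rw [← e, h, el_zero])
  have hne : ∀ n : Fin 7, roots.getD n.1 0 ≠ 0 := by decide +kernel
  exact hne n this

theorem rep_pow (n : Fin 7) : rep n ^ 3 = 1 := by
  obtain ⟨hr, e⟩ := rep_eq n
  have hz : ∀ n : Fin 7, goS (wd (roots.getD n.1 0)) (goS (wd (roots.getD n.1 0)) (roots.getD n.1 0)) = 0 := by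
    decide +kernel
  rw [e, (el_pow_three hr).2, hz n, el_zero]

theorem card_rep (n : Fin 7) : Nat.card (Subgroup.zpowers (rep n)) = 3 := by
  haveI : Fact (Nat.Prime 3) := ⟨Nat.prime_three⟩
  rw [Nat.card_zpowers]
  exact orderOf_eq_prime (rep_pow n) (rep_ne_one n)

theorem exists_rep (X : Subgroup P) (hX : Nat.card X = 3) : ∃ (n : Fin 7) (z : P),
    X.map (MulAut.conj z).toMonoidHom = Subgroup.zpowers (rep n) := by
  have := finite
  obtain ⟨x, hx⟩ := exists_conj_le hX
  set Y := X.map (MulAut.conj x).toMonoidHom with hY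
  have hY3 : Nat.card Y = 3 := by
    rw [hY, Subgroup.card_map_of_injective (MulAut.conj x).injective, hX]
  haveI : Fact (Nat.Prime 3) := ⟨Nat.prime_three⟩
  obtain ⟨y, hyY, hy1⟩ := (Subgroup.bot_or_exists_ne_one Y).resolve_left fun h => by
    rw [h, Subgroup.card_bot] at hY3
    norm_num at hY3
  obtain ⟨i, hi, rfl⟩ := mem_syl.1 (hx hyY)
  have h3 : el i ^ 3 = 1 := by
    have := pow_card_eq_one' (x := (⟨el i, hyY⟩ : Y))
    rw [hY3] at this
    exact congrArg Subtype.val this
  have hgen : Subgroup.zpowers (el i) = Y := by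
    refine Subgroup.eq_of_le_of_card_ge (Subgroup.zpowers_le.2 hyY) ?_
    rw [Nat.card_zpowers, hY3, orderOf_eq_prime h3 hy1]
  obtain ⟨n, z, hz⟩ := cover i hi hy1 h3
  refine ⟨n, z * x, ?_⟩
  rw [← hz, hgen, hY, Subgroup.map_map]
  congr 1
  ext a
  simp [mul_assoc]

theorem counts : ∀ i j : Fin 7, countA (reps.getD i.1 []) = countA (reps.getD j.1 []) →
    countV (reps.getD i.1 []) = countV (reps.getD j.1 []) → i = j := by
  have hA : reps.map countA = [0, 27, 0, 27, 0, 0, 81] := by decide +kernel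
  have hV : reps.map countV = [9, 9, 27, 27, 99, 81, 63] := by decide +kernel
  have eA : ∀ i : Fin 7, countA (reps.getD i.1 []) = [0, 27, 0, 27, 0, 0, 81].getD i.1 0 := fun i => by
    rw [← hA, List.getD_eq_getElem _ _ (show i.1 < (reps.map countA).length by simp [show reps.length = 7 from rfl]),
      List.getElem_map, List.getD_eq_getElem _ _ (show i.1 < reps.length from i.2)]
  have eV : ∀ i : Fin 7, countV (reps.getD i.1 []) = [9, 9, 27, 27, 99, 81, 63].getD i.1 0 := fun i => by
    rw [← hV, List.getD_eq_getElem _ _ (show i.1 < (reps.map countV).length by simp [show reps.length = 7 from rfl]),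
      List.getElem_map, List.getD_eq_getElem _ _ (show i.1 < reps.length from i.2)]
  intro i j h1 h2
  rw [eA, eA] at h1
  rw [eV, eV] at h2
  revert h1 h2
  revert i j
  decide

theorem rep_separated (i j : Fin 7) (z : P)
    (h : (Subgroup.zpowers (rep i)).map (MulAut.conj z).toMonoidHom = Subgroup.zpowers (rep j)) : i = j := by
  refine counts i j ?_ ?_
  · rw [← fixA_zpowers _ (reps_lt i), ← fixA_zpowers _ (reps_lt j)]
    exact (fixA_map _ z).symm.trans (congrArg fixA h)
  · rw [← fixV_zpowers _ (reps_lt i), ← fixV_zpowers _ (reps_lt j)]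
    exact (fixV_map _ z).symm.trans (congrArg fixV h)

/-- Seven classes of subgroups of order three in a group. -/
def SevenClasses (G : Type*) [Group G] : Prop :=
  ∃ Y : Fin 7 → Subgroup G, (∀ i, Nat.card (Y i) = 3) ∧
    (∀ i j, (∃ g : G, (Y i).map (MulAut.conj g).toMonoidHom = Y j) → i = j) ∧
    ∀ X : Subgroup G, Nat.card X = 3 → ∃ i, ∃ g : G, X.map (MulAut.conj g).toMonoidHom = Y i

theorem sevenClasses : SevenClasses P :=
  ⟨fun n => Subgroup.zpowers (rep n), card_rep, fun i j ⟨z, h⟩ => rep_separated i j z h, exists_rep⟩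

theorem SevenClasses.congr {G H : Type*} [Group G] [Group H] (e : G ≃* H) (h : SevenClasses G) : SevenClasses H := by
  obtain ⟨Y, hc, hs, he⟩ := h
  have key : ∀ (X : Subgroup G) (z : G), (X.map e.toMonoidHom).map (MulAut.conj (e z)).toMonoidHom =
      (X.map (MulAut.conj z).toMonoidHom).map e.toMonoidHom := fun X z => by
    rw [Subgroup.map_map, Subgroup.map_map]
    congr 1
    ext a
    simp
  refine ⟨fun n => (Y n).map e.toMonoidHom, fun i => ?_, fun i j hij => ?_, fun X hX => ?_⟩
  · rw [Subgroup.card_map_of_injective e.injective, hc]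
  · obtain ⟨g', hg⟩ := hij
    refine hs i j ⟨e.symm g', Subgroup.map_injective (f := e.toMonoidHom) e.injective ?_⟩
    rw [← key, e.apply_symm_apply, hg]
  · obtain ⟨i, z, hz⟩ := he (X.map e.symm.toMonoidHom) (by rw [Subgroup.card_map_of_injective e.symm.injective, hX])
    refine ⟨i, e z, ?_⟩
    show X.map (MulAut.conj (e z)).toMonoidHom = (Y i).map e.toMonoidHom
    rw [← hz, ← key, Subgroup.map_map (K := X)]
    congr 1
    rw [show e.toMonoidHom.comp e.symm.toMonoidHom = MonoidHom.id H from MonoidHom.ext e.apply_symm_apply,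
      Subgroup.map_id]

end Cfsg.Agent.Spor.Cos.O7.Ord3
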