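import Cfsg.Agent.Lib.Spor.Cos.O7.Ord3.Defs

/-! Kernel checks for the subgroups of order three. -/

set_option autoImplicit false
set_option maxRecDepth 100000
set_option maxHeartbeats 4000000

namespace Cfsg.Agent.Spor.Cos.O7.Ord3

theorem chkClosed_5 : allBlock chkClosed 19683 1024 5 = true := by decide +kernel

theorem chkClosed_6 : allBlock chkClosed 19683 1024 6 = true := by decide +kernel

theorem chkClosed_7 : allBlock chkClosed 19683 1024 7 = true := by decide +kernel

theorem chkClosed_8 : allBlock chkClosed 19683 1024 8 = true := by decide +kernel

theorem chkClosed_9 : allBlock chkClosed 19683 1024 9 = true := by decide +kernel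

theorem chkPrev_5 : allBlock chkPrev 19683 1024 5 = true := by decide +kernel

theorem chkPrev_6 : allBlock chkPrev 19683 1024 6 = true := by decide +kernel

theorem chkPrev_7 : allBlock chkPrev 19683 1024 7 = true := by decide +kernel

theorem chkPrev_8 : allBlock chkPrev 19683 1024 8 = true := by decide +kernel

theorem chkPrev_9 : allBlock chkPrev 19683 1024 9 = true := by decide +kernel

theorem chkPlace_5 : allBlock chkPlace 19683 1024 5 = true := by decide +kernel

theorem chkPlace_6 : allBlock chkPlace 19683 1024 6 = true := by decide +kernel

theorem chkPlace_7 : allBlock chkPlace 19683 1024 7 = true := by decide +kernel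

theorem chkPlace_8 : allBlock chkPlace 19683 1024 8 = true := by decide +kernel

theorem chkPlace_9 : allBlock chkPlace 19683 1024 9 = true := by decide +kernel

end Cfsg.Agent.Spor.Cos.O7.Ord3
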