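import Cfsg.Agent.Lib.Spor.Cos.O7.Ord3.Defs

/-! Kernel checks for the subgroups of order three. -/

set_option autoImplicit false
set_option maxRecDepth 100000
set_option maxHeartbeats 4000000

namespace Cfsg.Agent.Spor.Cos.O7.Ord3

theorem chkClosed_10 : allBlock chkClosed 19683 1024 10 = true := by decide +kernel

theorem chkClosed_11 : allBlock chkClosed 19683 1024 11 = true := by decide +kernel

theorem chkClosed_12 : allBlock chkClosed 19683 1024 12 = true := by decide +kernel

theorem chkClosed_13 : allBlock chkClosed 19683 1024 13 = true := by decide +kernel

theorem chkClosed_14 : allBlock chkClosed 19683 1024 14 = true := by decide +kernel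

theorem chkPrev_10 : allBlock chkPrev 19683 1024 10 = true := by decide +kernel

theorem chkPrev_11 : allBlock chkPrev 19683 1024 11 = true := by decide +kernel

theorem chkPrev_12 : allBlock chkPrev 19683 1024 12 = true := by decide +kernel

theorem chkPrev_13 : allBlock chkPrev 19683 1024 13 = true := by decide +kernel

theorem chkPrev_14 : allBlock chkPrev 19683 1024 14 = true := by decide +kernel

theorem chkPlace_10 : allBlock chkPlace 19683 1024 10 = true := by decide +kernel

theorem chkPlace_11 : allBlock chkPlace 19683 1024 11 = true := by decide +kernel

theorem chkPlace_12 : allBlock chkPlace 19683 1024 12 = true := by decide +kernel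

theorem chkPlace_13 : allBlock chkPlace 19683 1024 13 = true := by decide +kernel

theorem chkPlace_14 : allBlock chkPlace 19683 1024 14 = true := by decide +kernel

end Cfsg.Agent.Spor.Cos.O7.Ord3
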