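import Cfsg.Agent.Lib.Spor.Cos.O7.Ord3.Defs

/-! Kernel checks for the subgroups of order three. -/

set_option autoImplicit false
set_option maxRecDepth 100000
set_option maxHeartbeats 4000000

namespace Cfsg.Agent.Spor.Cos.O7.Ord3

theorem chkClosed_15 : allBlock chkClosed 19683 1024 15 = true := by decide +kernel

theorem chkClosed_16 : allBlock chkClosed 19683 1024 16 = true := by decide +kernel

theorem chkClosed_17 : allBlock chkClosed 19683 1024 17 = true := by decide +kernel

theorem chkClosed_18 : allBlock chkClosed 19683 1024 18 = true := by decide +kernel

theorem chkClosed_19 : allBlock chkClosed 19683 1024 19 = true := by decide +kernel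

theorem chkPrev_15 : allBlock chkPrev 19683 1024 15 = true := by decide +kernel

theorem chkPrev_16 : allBlock chkPrev 19683 1024 16 = true := by decide +kernel

theorem chkPrev_17 : allBlock chkPrev 19683 1024 17 = true := by decide +kernel

theorem chkPrev_18 : allBlock chkPrev 19683 1024 18 = true := by decide +kernel

theorem chkPrev_19 : allBlock chkPrev 19683 1024 19 = true := by decide +kernel

theorem chkPlace_15 : allBlock chkPlace 19683 1024 15 = true := by decide +kernel

theorem chkPlace_16 : allBlock chkPlace 19683 1024 16 = true := by decide +kernel

theorem chkPlace_17 : allBlock chkPlace 19683 1024 17 = true := by decide +kernel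

theorem chkPlace_18 : allBlock chkPlace 19683 1024 18 = true := by decide +kernel

theorem chkPlace_19 : allBlock chkPlace 19683 1024 19 = true := by decide +kernel

end Cfsg.Agent.Spor.Cos.O7.Ord3
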