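import Cfsg.Agent.Lib.Spor.Cos.O7.Ord3.Defs

/-! Kernel checks for the subgroups of order three. -/

set_option autoImplicit false
set_option maxRecDepth 100000
set_option maxHeartbeats 4000000

namespace Cfsg.Agent.Spor.Cos.O7.Ord3

theorem chkThree_8 : allBlock chkThree 19683 1024 8 = true := by decide +kernel

theorem chkThree_9 : allBlock chkThree 19683 1024 9 = true := by decide +kernel

theorem chkThree_10 : allBlock chkThree 19683 1024 10 = true := by decide +kernel

theorem chkThree_11 : allBlock chkThree 19683 1024 11 = true := by decide +kernel

end Cfsg.Agent.Spor.Cos.O7.Ord3
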