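import Cfsg.Agent.Lib.Spor.Cos.O7.Ord3.Defs

/-! Kernel checks for the subgroups of order three. -/

set_option autoImplicit false
set_option maxRecDepth 100000
set_option maxHeartbeats 4000000

namespace Cfsg.Agent.Spor.Cos.O7.Ord3

theorem chkThree_12 : allBlock chkThree 19683 1024 12 = true := by decide +kernel

theorem chkThree_13 : allBlock chkThree 19683 1024 13 = true := by decide +kernel

theorem chkThree_14 : allBlock chkThree 19683 1024 14 = true := by decide +kernel

theorem chkThree_15 : allBlock chkThree 19683 1024 15 = true := by decide +kernel

end Cfsg.Agent.Spor.Cos.O7.Ord3
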