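import Cfsg.Agent.Lib.Spor.Cos.O7.Ord3.ChkA0
import Cfsg.Agent.Lib.Spor.Cos.O7.Ord3.ChkA1
import Cfsg.Agent.Lib.Spor.Cos.O7.Ord3.ChkA2
import Cfsg.Agent.Lib.Spor.Cos.O7.Ord3.ChkA3
import Cfsg.Agent.Lib.Spor.Cos.O7.Ord3.ChkB0
import Cfsg.Agent.Lib.Spor.Cos.O7.Ord3.ChkB1
import Cfsg.Agent.Lib.Spor.Cos.O7.Ord3.ChkB2
import Cfsg.Agent.Lib.Spor.Cos.O7.Ord3.ChkB3
import Cfsg.Agent.Lib.Spor.Cos.O7.Ord3.ChkB4

/-! Kernel checks for the subgroups of order three. -/

set_option autoImplicit false
set_option maxRecDepth 100000
set_option maxHeartbeats 4000000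

namespace Cfsg.Agent.Spor.Cos.O7.Ord3

theorem chkClosed_all : ∀ i < 19683, chkClosed i = true :=
  of_blocks (size := 1024) (b := 20) (by decide) (by decide) fun j hj => by
    interval_cases j
    · exact chkClosed_0
    · exact chkClosed_1
    · exact chkClosed_2
    · exact chkClosed_3
    · exact chkClosed_4
    · exact chkClosed_5
    · exact chkClosed_6
    · exact chkClosed_7
    · exact chkClosed_8
    · exact chkClosed_9
    · exact chkClosed_10
    · exact chkClosed_11
    · exact chkClosed_12
    · exact chkClosed_13
    · exact chkClosed_14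
    · exact chkClosed_15
    · exact chkClosed_16
    · exact chkClosed_17
    · exact chkClosed_18
    · exact chkClosed_19

theorem chkPrev_all : ∀ i < 19683, chkPrev i = true :=
  of_blocks (size := 1024) (b := 20) (by decide) (by decide) fun j hj => by
    interval_cases j
    · exact chkPrev_0
    · exact chkPrev_1
    · exact chkPrev_2
    · exact chkPrev_3
    · exact chkPrev_4
    · exact chkPrev_5
    · exact chkPrev_6
    · exact chkPrev_7
    · exact chkPrev_8
    · exact chkPrev_9
    · exact chkPrev_10
    · exact chkPrev_11
    · exact chkPrev_12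
    · exact chkPrev_13
    · exact chkPrev_14
    · exact chkPrev_15
    · exact chkPrev_16
    · exact chkPrev_17
    · exact chkPrev_18
    · exact chkPrev_19

theorem chkPlace_all : ∀ i < 19683, chkPlace i = true :=
  of_blocks (size := 1024) (b := 20) (by decide) (by decide) fun j hj => by
    interval_cases j
    · exact chkPlace_0
    · exact chkPlace_1
    · exact chkPlace_2
    · exact chkPlace_3
    · exact chkPlace_4
    · exact chkPlace_5
    · exact chkPlace_6
    · exact chkPlace_7
    · exact chkPlace_8
    · exact chkPlace_9
    · exact chkPlace_10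
    · exact chkPlace_11
    · exact chkPlace_12
    · exact chkPlace_13
    · exact chkPlace_14
    · exact chkPlace_15
    · exact chkPlace_16
    · exact chkPlace_17
    · exact chkPlace_18
    · exact chkPlace_19

theorem chkThree_all : ∀ i < 19683, chkThree i = true :=
  of_blocks (size := 1024) (b := 20) (by decide) (by decide) fun j hj => by
    interval_cases j
    · exact chkThree_0
    · exact chkThree_1
    · exact chkThree_2
    · exact chkThree_3
    · exact chkThree_4
    · exact chkThree_5
    · exact chkThree_6
    · exact chkThree_7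
    · exact chkThree_8
    · exact chkThree_9
    · exact chkThree_10
    · exact chkThree_11
    · exact chkThree_12
    · exact chkThree_13
    · exact chkThree_14
    · exact chkThree_15
    · exact chkThree_16
    · exact chkThree_17
    · exact chkThree_18
    · exact chkThree_19

end Cfsg.Agent.Spor.Cos.O7.Ord3
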