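import Cfsg.Agent.Lib.Spor.Cos.O7.Ord3.Defs

/-! Kernel checks for the subgroups of order three. -/

set_option autoImplicit false
set_option maxRecDepth 100000
set_option maxHeartbeats 4000000

namespace Cfsg.Agent.Spor.Cos.O7.Ord3

theorem chkClosed_0 : allBlock chkClosed 19683 1024 0 = true := by decide +kernel

theorem chkClosed_1 : allBlock chkClosed 19683 1024 1 = true := by decide +kernel

theorem chkClosed_2 : allBlock chkClosed 19683 1024 2 = true := by decide +kernel

theorem chkClosed_3 : allBlock chkClosed 19683 1024 3 = true := by decide +kernel

theorem chkClosed_4 : allBlock chkClosed 19683 1024 4 = true := by decide +kernel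

theorem chkPrev_0 : allBlock chkPrev 19683 1024 0 = true := by decide +kernel

theorem chkPrev_1 : allBlock chkPrev 19683 1024 1 = true := by decide +kernel

theorem chkPrev_2 : allBlock chkPrev 19683 1024 2 = true := by decide +kernel

theorem chkPrev_3 : allBlock chkPrev 19683 1024 3 = true := by decide +kernel

theorem chkPrev_4 : allBlock chkPrev 19683 1024 4 = true := by decide +kernel

theorem chkPlace_0 : allBlock chkPlace 19683 1024 0 = true := by decide +kernel

theorem chkPlace_1 : allBlock chkPlace 19683 1024 1 = true := by decide +kernel

theorem chkPlace_2 : allBlock chkPlace 19683 1024 2 = true := by decide +kernel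

theorem chkPlace_3 : allBlock chkPlace 19683 1024 3 = true := by decide +kernel

theorem chkPlace_4 : allBlock chkPlace 19683 1024 4 = true := by decide +kernel

end Cfsg.Agent.Spor.Cos.O7.Ord3
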