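import Cfsg.Agent.Lib.Spor.Cos.O7.Ord3.Defs
import Cfsg.Agent.Lib.Spor.Cos.O7.ActVData

/-! Kernel checks for the subgroups of order three. -/

set_option autoImplicit false
set_option maxRecDepth 100000
set_option maxHeartbeats 4000000

namespace Cfsg.Agent.Spor.Cos.O7.Ord3

/-- The tables agree with the words. -/
noncomputable def chkLetters (p : ℕ) : Bool :=
  (List.range 9).all fun s => force (actV.go (lws.getD s []) p) fun q => Nat.beq (actT.im p s) q

theorem chkLetters_0 : allBlock chkLetters 2187 256 0 = true := by decide +kernel

theorem chkLetters_1 : allBlock chkLetters 2187 256 1 = true := by decide +kernel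

theorem chkLetters_2 : allBlock chkLetters 2187 256 2 = true := by decide +kernel

theorem chkLetters_3 : allBlock chkLetters 2187 256 3 = true := by decide +kernel

theorem chkLetters_4 : allBlock chkLetters 2187 256 4 = true := by decide +kernel

theorem chkLetters_5 : allBlock chkLetters 2187 256 5 = true := by decide +kernel

theorem chkLetters_6 : allBlock chkLetters 2187 256 6 = true := by decide +kernel

theorem chkLetters_7 : allBlock chkLetters 2187 256 7 = true := by decide +kernel

theorem chkLetters_8 : allBlock chkLetters 2187 256 8 = true := by decide +kernel

theorem chkLetters_all : ∀ p < 2187, chkLetters p = true :=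
  of_blocks (size := 256) (b := 9) (by decide) (by decide) fun j hj => by
    interval_cases j
    · exact chkLetters_0
    · exact chkLetters_1
    · exact chkLetters_2
    · exact chkLetters_3
    · exact chkLetters_4
    · exact chkLetters_5
    · exact chkLetters_6
    · exact chkLetters_7
    · exact chkLetters_8

end Cfsg.Agent.Spor.Cos.O7.Ord3
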