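import Cfsg.Agent.Lib.Spor.Cos.O7.Ord3.TabS
import Cfsg.Agent.Lib.Spor.Cos.O7.Ord3.TabT
import Cfsg.Agent.Lib.Spor.Cos.O7.Ord3.TabD
import Cfsg.Agent.Lib.Spor.Cos.O7.Ord3.Data

/-!
Checks for a list of 19683 isometries that is closed under three of nine letters.
-/

set_option autoImplicit false

namespace Cfsg.Agent.Spor.Cos.O7.Ord3

/-- The nine letters as an action on vectors. -/
def actT : Act := ⟨9, 2187, tabT⟩

/-- The images of a basis vector under a listed element, as a field. -/
noncomputable def keyAt (i l : ℕ) : ℕ := (tabS.at i >>> (12 * l)) % 4096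

/-- The product of a letter with a listed element. -/
noncomputable def piAt (i k : ℕ) : ℕ := (tabS.at i >>> (84 + 15 * k)) % 32768

/-- The code of the word of a listed element. -/
noncomputable def codeAt (i : ℕ) : ℕ := (tabS.at i >>> 129) % 1099511627776

/-- The element before a listed element. -/
noncomputable def prevAt (i : ℕ) : ℕ := (tabS.at i >>> 169) % 32768

/-- The kind of certificate. -/
noncomputable def kindAt (i : ℕ) : ℕ := (tabS.at i >>> 184) % 16

/-- The partner in the certificate. -/
noncomputable def nextAt (i : ℕ) : ℕ := (tabS.at i >>> 188) % 32768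

/-- The rank in the certificate. -/
noncomputable def rankAt (i : ℕ) : ℕ := (tabS.at i >>> 203) % 32

/-- A word from its code. -/
noncomputable def decode (c : ℕ) : List ℕ :=
  Nat.rec (motive := fun _ => ℕ → List ℕ) (fun _ => [])
    (fun _ r c => Bool.rec ((c % 4 - 1) :: r (c / 4)) [] (Nat.beq (c % 4) 0)) 20 c

/-- The word of a listed element. -/
noncomputable def wd (i : ℕ) : List ℕ := decode (codeAt i)

/-- A word applied to a listed element. -/
noncomputable def goS (w : List ℕ) (i : ℕ) : ℕ :=
  List.rec (motive := fun _ => ℕ) i (fun k _ r => force r fun q => piAt q k) w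

theorem goS_nil (i : ℕ) : goS [] i = i := rfl

theorem goS_cons (k : ℕ) (w : List ℕ) (i : ℕ) : goS (k :: w) i = piAt (goS w i) k := by
  simp only [goS, force_eq]

theorem decode_lt (c : ℕ) : ∀ s ∈ decode c, s < 3 := by
  suffices h : ∀ f c, ∀ s ∈ (Nat.rec (motive := fun _ => ℕ → List ℕ) (fun _ => [])
      (fun _ r c => Bool.rec ((c % 4 - 1) :: r (c / 4)) [] (Nat.beq (c % 4) 0)) f c), s < 3 from h 20 c
  intro f
  induction f with
  | zero => intro c s hs; exact absurd hs (List.not_mem_nil)
  | succ f ih =>
    intro c s hs
    cases hb : Nat.beq (c % 4) 0 <;> simp only [hb] at hs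
    · rcases List.mem_cons.1 hs with rfl | h
      · have := Nat.mod_lt c (show 4 > 0 by norm_num)
        omega
      · exact ih _ s h
    · exact absurd hs (List.not_mem_nil)

/-- The three letters lead back into the list. -/
noncomputable def chkClosed (i : ℕ) : Bool :=
  (List.range 3).all fun k => force (piAt i k) fun q => Nat.blt q 19683 &&
    (List.range 7).all fun l => force (keyAt i l) fun a => Nat.blt a 2187 &&
      Nat.beq (keyAt q l) (actT.im a k)

/-- A listed element comes from an earlier one. -/
noncomputable def chkPrev (i : ℕ) : Bool :=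
  Nat.beq i 0 || force (prevAt i) fun j => force (codeAt i % 4 - 1) fun k =>
    Nat.blt j i && Nat.blt k 3 && Nat.beq (piAt j k) i && (wd i == k :: wd j)

/-- The place read from some entries. -/
noncomputable def place (i : ℕ) : ℕ :=
  tabD.at (List.rec (motive := fun _ => ℕ) 0
    (fun e _ r => keyAt i (e.1 / 12) / e.2 % 3 + 3 * r) entries)

/-- The entries tell a listed element. -/
noncomputable def chkPlace (i : ℕ) : Bool := Nat.beq (place i) i

/-- The certificate of an element whose cube is trivial. -/
noncomputable def chkCert (i j : ℕ) : Bool :=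
  force (kindAt i) fun c => force (nextAt i) fun n =>
    (Nat.beq c 11 && Nat.blt n 7 && Nat.beq (roots.getD n 0) i) ||
    (Nat.beq c 10 && Nat.beq n j && Nat.blt n 19683 && !Nat.beq n 0 && Nat.blt (rankAt n) (rankAt i)) ||
    (Nat.blt 0 c && Nat.blt c 10 && Nat.blt n 19683 && Nat.blt (rankAt n) (rankAt i) &&
      force (codeAt i) fun cd => (List.range 7).all fun l => force (keyAt n l) fun a => Nat.blt a 2187 &&
        Nat.beq (actT.go (decode cd) (actT.im (3 ^ l) (c - 1))) (actT.im a (c - 1)))

/-- An element either has non-trivial cube or a certificate. -/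
noncomputable def chkThree (i : ℕ) : Bool :=
  Nat.beq i 0 || force (codeAt i) fun cd => force (goS (decode cd) i) fun j =>
    !Nat.beq (goS (decode cd) j) 0 || chkCert i j

end Cfsg.Agent.Spor.Cos.O7.Ord3
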