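import Cfsg.Agent.Lib.Spor.Cos.O7.Iso

/-!
The faithful action of the group on seven-dimensional vectors.
-/

set_option autoImplicit false
set_option maxRecDepth 100000

open Matrix

namespace Cfsg.Agent.Spor.Cos.O7.Ord3

/-- The space. -/
abbrev V : Type := V7 → ZMod 3

theorem exists_psi : ∃ ψ : P →* OG, ∀ s, ψ (g s) = iso s :=
  pres.exists_hom iso iso_sq iso_words fun s hs => Subtype.ext (Units.ext (by
    show mat s = 1
    have : ¬ s < 8 := Nat.not_lt.2 hs
    ext i j; simp [mat, this, Matrix.one_apply]))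

/-- The matrices of the group. -/
noncomputable def psi : P →* OG := exists_psi.choose

theorem psi_g (s : ℕ) : psi (g s) = iso s := exists_psi.choose_spec s

theorem psi_injective : Function.Injective psi := by
  have := finite
  have := isSimple
  rw [← MonoidHom.ker_eq_bot_iff]
  refine (IsSimpleGroup.eq_bot_or_eq_top_of_normal psi.ker inferInstance).resolve_right fun h => ?_
  have h0 : iso 0 = 1 := (psi_g 0).symm.trans (MonoidHom.mem_ker.1 (h ▸ Subgroup.mem_top _))
  have h1 : mat 0 = 1 := congrArg isoMat h0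
  have h2 : ¬ mat 0 = 1 := by decide +kernel
  exact h2 h1

/-- The action on vectors. -/
noncomputable def rho : P →* Equiv.Perm V where
  toFun x :=
    { toFun := fun v => isoMat (psi x) *ᵥ v
      invFun := fun v => isoMat (psi x⁻¹) *ᵥ v
      left_inv := fun v => by simp only [Matrix.mulVec_mulVec, ← map_mul, inv_mul_cancel, map_one, Matrix.one_mulVec]
      right_inv := fun v => by simp only [Matrix.mulVec_mulVec, ← map_mul, mul_inv_cancel, map_one, Matrix.one_mulVec] }
  map_one' := Equiv.ext fun v => by simp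
  map_mul' x y := Equiv.ext fun v => by simp [Matrix.mulVec_mulVec]

theorem rho_apply (x : P) (v : V) : rho x v = isoMat (psi x) *ᵥ v := rfl

theorem quad_rho (x : P) (v : V) : quadFormOdd 3 (ZMod 3) (rho x v) = quadFormOdd 3 (ZMod 3) v :=
  (psi x).2 v v

theorem rho_ev (w : List ℕ) (h : ∀ s ∈ w, s < 8) {p : ℕ} (hp : p < 2187) :
    actV.go w p < 2187 ∧ rho (ev g w) (vec p) = vec (actV.go w p) := by
  rw [rho_apply, ev_map psi g w, show (fun s => psi (g s)) = iso from funext psi_g]
  exact ev_vec w h p hp

theorem basis_ext {x y : P} (h : ∀ l < 7, rho x (vec (3 ^ l)) = rho y (vec (3 ^ l))) : x = y := by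
  refine psi_injective (Subtype.ext (Units.ext ?_))
  show isoMat (psi x) = isoMat (psi y)
  ext i j
  have hl : pos7 j < 7 := by revert j; decide
  have := congrFun (h _ hl) i
  rw [rho_apply, rho_apply, show vec (3 ^ pos7 j) = Pi.single j 1 from (vec_basis j).1, Matrix.mulVec_single_one,
    Matrix.mulVec_single_one] at this
  exact this

/-- The vectors are the codes. -/
noncomputable def vecEquiv : Fin 2187 ≃ V :=
  Equiv.ofBijective (fun p => vec p) (by
    refine (Fintype.bijective_iff_surjective_and_card _).2 ⟨fun v => ?_, by simp [V7]⟩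
    obtain ⟨p, hp, rfl⟩ := vec_surj v
    exact ⟨⟨p, hp⟩, rfl⟩)

theorem vec_inj {p q : ℕ} (hp : p < 2187) (hq : q < 2187) (h : vec p = vec q) : p = q :=
  congrArg Fin.val (vecEquiv.injective (show vecEquiv ⟨p, hp⟩ = vecEquiv ⟨q, hq⟩ from h))

end Cfsg.Agent.Spor.Cos.O7.Ord3
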