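import Cfsg.Agent.Lib.Spor.Cos.O7.Ord3.Rho
import Cfsg.Agent.Lib.Spor.Cos.O7.Ord3.Chk
import Cfsg.Agent.Lib.Spor.Cos.O7.Ord3.ChkT

/-!
The listed elements form a Sylow 3-subgroup.
-/

set_option autoImplicit false
set_option maxRecDepth 100000

open Matrix

namespace Cfsg.Agent.Spor.Cos.O7.Ord3

/-- The nine letters. -/
noncomputable def lt9 (s : ℕ) : P := ev g (lws.getD s [])

/-- A listed element. -/
noncomputable def el (i : ℕ) : P := ev lt9 (wd i)

theorem lws_lt (s : ℕ) : ∀ t ∈ lws.getD s [], t < 8 := by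
  by_cases h : s < 9
  · have hl : Act.lettersOk 8 lws = true := by decide +kernel
    rw [List.getD_eq_getElem _ _ (show s < lws.length from h)]
    exact Act.lt_of_lettersOk hl (List.getElem_mem _)
  · rw [List.getD_eq_default _ _ (show lws.length ≤ s from Nat.not_lt.1 h)]
    intro t ht
    exact absurd ht (List.not_mem_nil)

theorem rho_lt9 {s p : ℕ} (hs : s < 9) (hp : p < 2187) :
    actT.im p s < 2187 ∧ rho (lt9 s) (vec p) = vec (actT.im p s) := by
  have h := List.all_eq_true.1 (chkLetters_all p hp) s (List.mem_range.2 hs)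
  rw [force_eq] at h
  rw [Nat.eq_of_beq_eq_true h]
  exact rho_ev _ (lws_lt s) hp

theorem rho_ev9 : ∀ w : List ℕ, (∀ s ∈ w, s < 9) → ∀ p < 2187,
    actT.go w p < 2187 ∧ rho (ev lt9 w) (vec p) = vec (actT.go w p)
  | [], _, p, hp => ⟨hp, by simp [ev, Act.go_nil]⟩
  | s :: w, h, p, hp => by
    obtain ⟨h1, h2⟩ := rho_ev9 w (fun t ht => h t (List.mem_cons_of_mem _ ht)) p hp
    obtain ⟨h3, h4⟩ := rho_lt9 (h s (List.mem_cons_self ..)) h1
    rw [Act.go_cons]
    refine ⟨h3, ?_⟩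
    rw [ev, map_mul, Equiv.Perm.mul_apply, h2]
    exact h4

theorem el_zero : el 0 = 1 := by
  have : wd 0 = [] := by decide +kernel
  rw [el, this, ev]

theorem closed {i k : ℕ} (hi : i < 19683) (hk : k < 3) : piAt i k < 19683 ∧
    ∀ l < 7, keyAt i l < 2187 ∧ keyAt (piAt i k) l = actT.im (keyAt i l) k := by
  have h := List.all_eq_true.1 (chkClosed_all i hi) k (List.mem_range.2 hk)
  simp only [force_eq, Bool.and_eq_true, List.all_eq_true, List.mem_range] at h
  exact ⟨Nat.le_of_ble_eq_true h.1, fun l hl =>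
    ⟨Nat.le_of_ble_eq_true (h.2 l hl).1, Nat.eq_of_beq_eq_true (h.2 l hl).2⟩⟩

theorem key_lt {i l : ℕ} (hi : i < 19683) (hl : l < 7) : keyAt i l < 2187 :=
  ((closed hi (k := 0) (by norm_num)).2 l hl).1

theorem rho_el : ∀ i < 19683, ∀ l < 7, rho (el i) (vec (3 ^ l)) = vec (keyAt i l) := by
  intro i
  induction i using Nat.strong_induction_on with
  | _ i ih =>
    intro hi l hl
    have h := chkPrev_all i hi
    simp only [chkPrev, force_eq, Bool.or_eq_true, Bool.and_eq_true] at h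
    rcases h with h0 | ⟨⟨⟨hj, hk⟩, hp⟩, hw⟩
    · obtain rfl := Nat.eq_of_beq_eq_true h0
      have hz : ∀ l < 7, keyAt 0 l = 3 ^ l := by decide +kernel
      rw [el_zero, map_one, Equiv.Perm.one_apply, hz l hl]
    · have hj' := Nat.le_of_ble_eq_true hj
      have hk' := Nat.le_of_ble_eq_true hk
      have hi' := Nat.eq_of_beq_eq_true hp
      have hj'' : prevAt i < 19683 := lt_trans hj' hi
      rw [el, beq_iff_eq.1 hw, ev, map_mul, Equiv.Perm.mul_apply, ← el, ih _ hj' hj'' l hl]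
      obtain ⟨hc1, hc2⟩ := (closed hj'' hk').2 l hl
      rw [(rho_lt9 (lt_trans hk' (by norm_num)) hc1).2, ← hc2, hi']

theorem el_unique {x : P} {i : ℕ} (hi : i < 19683) (h : ∀ l < 7, rho x (vec (3 ^ l)) = vec (keyAt i l)) :
    x = el i :=
  basis_ext fun l hl => (h l hl).trans (rho_el i hi l hl).symm

theorem lt9_mul_el {i k : ℕ} (hi : i < 19683) (hk : k < 3) : lt9 k * el i = el (piAt i k) := by
  obtain ⟨h1, h2⟩ := closed hi hk
  refine el_unique h1 fun l hl => ?_
  rw [map_mul, Equiv.Perm.mul_apply, rho_el i hi l hl, (rho_lt9 (lt_trans hk (by norm_num)) (key_lt hi hl)).2,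
    (h2 l hl).2]

theorem goS_spec : ∀ w : List ℕ, (∀ s ∈ w, s < 3) → ∀ j < 19683,
    goS w j < 19683 ∧ ev lt9 w * el j = el (goS w j)
  | [], _, j, hj => ⟨hj, by rw [ev, one_mul, goS_nil]⟩
  | k :: w, h, j, hj => by
    obtain ⟨h1, h2⟩ := goS_spec w (fun t ht => h t (List.mem_cons_of_mem _ ht)) j hj
    rw [goS_cons, ev, mul_assoc, h2]
    exact ⟨(closed h1 (h k (List.mem_cons_self ..))).1, lt9_mul_el h1 (h k (List.mem_cons_self ..))⟩

theorem el_mul {i j : ℕ} (hj : j < 19683) : goS (wd i) j < 19683 ∧ el i * el j = el (goS (wd i) j) :=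
  goS_spec (wd i) (decode_lt _) j hj

theorem el_inj {i j : ℕ} (hi : i < 19683) (hj : j < 19683) (h : el i = el j) : i = j := by
  have hk : ∀ l < 7, keyAt i l = keyAt j l := fun l hl => vec_inj (key_lt hi hl) (key_lt hj hl) (by
    rw [← rho_el i hi l hl, ← rho_el j hj l hl, h])
  have he : ∀ e ∈ entries, e.1 / 12 < 7 := by decide +kernel
  have hp : place i = place j := by
    unfold place
    congr 1
    revert he
    generalize entries = es
    intro he
    induction es with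
    | nil => rfl
    | cons e t ih =>
      show keyAt i (e.1 / 12) / e.2 % 3 + 3 * _ = keyAt j (e.1 / 12) / e.2 % 3 + 3 * _
      rw [hk _ (he e (List.mem_cons_self ..)), ih fun a ha => he a (List.mem_cons_of_mem _ ha)]
  exact (Nat.eq_of_beq_eq_true (chkPlace_all i hi)).symm.trans
    (hp.trans (Nat.eq_of_beq_eq_true (chkPlace_all j hj)))

theorem pow_el (i : ℕ) (hi : i < 19683) (n : ℕ) : ∃ j < 19683, el i ^ n = el j := by
  induction n with
  | zero => exact ⟨0, by norm_num, by rw [pow_zero, el_zero]⟩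
  | succ n ih =>
    obtain ⟨j, hj, e⟩ := ih
    exact ⟨_, (el_mul (i := i) hj).1, by rw [pow_succ', e, (el_mul (i := i) hj).2]⟩

/-- The subgroup of the listed elements. -/
noncomputable def syl : Subgroup P where
  carrier := {x | ∃ i < 19683, el i = x}
  mul_mem' := by
    rintro _ _ ⟨i, hi, rfl⟩ ⟨j, hj, rfl⟩
    exact ⟨_, (el_mul (i := i) hj).1, (el_mul (i := i) hj).2.symm⟩
  one_mem' := ⟨0, by norm_num, el_zero⟩
  inv_mem' := by
    rintro _ ⟨i, hi, rfl⟩
    have := finite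
    obtain ⟨j, hj, e⟩ := pow_el i hi (orderOf (el i) - 1)
    refine ⟨j, hj, ?_⟩
    rw [← e]
    refine eq_inv_of_mul_eq_one_left ?_
    rw [← pow_succ, Nat.sub_add_cancel (orderOf_pos (el i)), pow_orderOf_eq_one]

theorem mem_syl {x : P} : x ∈ syl ↔ ∃ i < 19683, el i = x := Iff.rfl

theorem card_syl : Nat.card syl = 3 ^ 9 := by
  rw [← Nat.card_congr (Equiv.ofBijective (fun i : Fin 19683 => (⟨el i, i, i.2, rfl⟩ : syl)) ⟨fun a b h =>
    Fin.ext (el_inj a.2 b.2 (congrArg Subtype.val h)), fun ⟨x, i, hi, e⟩ => ⟨⟨i, hi⟩, Subtype.ext e⟩⟩)]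
  simp

theorem exists_conj_le {X : Subgroup P} (hX : Nat.card X = 3) :
    ∃ x : P, X.map (MulAut.conj x).toMonoidHom ≤ syl := by
  have := finite
  haveI : Fact (Nat.Prime 3) := ⟨Nat.prime_three⟩
  have hf : Nat.card syl = 3 ^ (Nat.card P).factorization 3 := by
    rw [card_syl, card_eq]
    congr 1
    have h1 : (4585351680 : ℕ) = 3 ^ 9 * 232960 := by norm_num
    rw [h1, Nat.factorization_mul (by norm_num) (by norm_num), Finsupp.add_apply,
      Nat.factorization_pow_self Nat.prime_three, Nat.factorization_eq_zero_of_not_dvd (by norm_num)]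
  set S : Sylow 3 P := Sylow.ofCard syl hf with hS
  obtain ⟨T, hT⟩ := (IsPGroup.of_card (n := 1) (G := X) (p := 3) (by rw [hX, pow_one])).exists_le_sylow
  obtain ⟨x, hx⟩ := MulAction.exists_smul_eq P T S
  refine ⟨x, ?_⟩
  have hS' : (S : Subgroup P) = syl := Sylow.coe_ofCard syl hf
  rw [← hS', ← hx]
  rintro _ ⟨y, hy, rfl⟩
  exact Subgroup.mem_map_of_mem _ (hT hy)

end Cfsg.Agent.Spor.Cos.O7.Ord3
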